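import Mathlib.Algebra.Module.FinitePresentation
import Mathlib.RingTheory.IsTensorProduct
import Mathlib.RingTheory.Ideal.Operations
import Mathlib.LinearAlgebra.StdBasis
import Mathlib.Tactic.LinearCombination
import Mathlib.Tactic.Ring

/-! Bounded presentations from presentations on a cover, and products. -/

set_option autoImplicit false
set_option backward.isDefEq.respectTransparency false
set_option backward.isDefEq.respectTransparency.types false

universe u v w

open Submodule

namespace Groth.Agent.H9Prod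

/-- `x` and `rel` present `M` up to powers of `a`. -/
structure PresAway {R : Type u} [CommRing R] {M : Type v} [AddCommGroup M] [Module R M] (a : R)
    {n p : Type} [Fintype n] (x : n → M) (rel : p → n → R) : Prop where
  rel_zero : ∀ q, ∑ l, rel q l • x l = 0
  gen : ∀ y : M, ∃ k : ℕ, a ^ k • y ∈ span R (Set.range x)
  ker : ∀ c : n → R, ∑ l, c l • x l = 0 → ∃ k : ℕ, a ^ k • c ∈ span R (Set.range rel)

/-- `f` is a surjection whose kernel is spanned by the family `W`. -/
def IsPres {R : Type u} [CommRing R] {M : Type v} [AddCommGroup M] [Module R M] {s t : Type}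
    (f : (s → R) →ₗ[R] M) (W : t → s → R) : Prop :=
  Function.Surjective f ∧ LinearMap.ker f = span R (Set.range W)

theorem exists_presentation {R : Type u} [CommRing R] {M : Type v} [AddCommGroup M] [Module R M]
    {r : Type} [Fintype r] (n p : r → Type) [∀ j, Fintype (n j)] [∀ j, Fintype (p j)]
    (a : r → R) (ha : Ideal.span (Set.range a) = ⊤)
    (h : ∀ j, ∃ (x : n j → M) (rel : p j → n j → R), PresAway (a j) x rel) :
    ∃ (f : ((Σ j, n j) → R) →ₗ[R] M) (W : (Σ j, (p j ⊕ (Σ j, n j))) → (Σ j, n j) → R), IsPres f W := by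
  classical
  choose x rel hP using h
  let X : (Σ j, n j) → M := fun s => x s.1 s.2
  let f := Fintype.linearCombination R X
  -- embedding of the coefficients of one chart
  let ι : ∀ j, (n j → R) →ₗ[R] ((Σ j, n j) → R) := fun j =>
    ∑ l : n j, (LinearMap.single R (fun _ : Σ j, n j => R) ⟨j, l⟩).comp (LinearMap.proj l)
  have hι : ∀ j (c : n j → R), f (ι j c) = ∑ l, c l • x j l := fun j c => by
    simp [ι, f, X]
  have hA : ∀ j (s : Σ j, n j), ∃ (k : ℕ) (A : n j → R), a j ^ k • X s = ∑ l, A l • x j l := fun j s => by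
    obtain ⟨k, hk⟩ := (hP j).gen (X s)
    obtain ⟨A, hA⟩ := mem_span_range_iff_exists_fun R |>.1 hk
    exact ⟨k, A, hA.symm⟩
  choose k A hA using hA
  let W : (Σ j, (p j ⊕ (Σ j, n j))) → (Σ j, n j) → R := fun
    | ⟨j, .inl q⟩ => ι j (rel j q)
    | ⟨j, .inr s⟩ => a j ^ k j s • Pi.single s 1 - ι j (A j s)
  refine ⟨f, W, fun y => ?_, le_antisymm (fun v hv => ?_) (span_le.2 ?_)⟩
  · rw [← LinearMap.mem_range, Fintype.range_linearCombination]
    refine mem_of_span_eq_top_of_smul_pow_mem _ (Set.range a) ha y fun ⟨_, j, hj⟩ => ?_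
    obtain ⟨k, hk⟩ := (hP j).gen y
    refine ⟨k, span_le.2 ?_ (hj ▸ hk)⟩
    rintro _ ⟨l, rfl⟩
    exact subset_span ⟨⟨j, l⟩, rfl⟩
  · refine mem_of_span_eq_top_of_smul_pow_mem _ (Set.range a) ha v fun ⟨_, j, hj⟩ => ?_
    subst hj
    let K := ∑ s, k j s
    let c : n j → R := fun l => ∑ s, v s * (a j ^ (K - k j s) * A j s l)
    have hle : ∀ s, k j s ≤ K := fun s => Finset.single_le_sum (fun i _ => Nat.zero_le (k j i)) (Finset.mem_univ s)
    have hdec : a j ^ K • v - ι j c = ∑ s, (v s * a j ^ (K - k j s)) • W ⟨j, .inr s⟩ := by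
      have h1 : ι j c = ∑ s, (v s * a j ^ (K - k j s)) • ι j (A j s) := by
        simp only [← map_smul, ← map_sum]
        congr 1
        funext l
        simp [c, Finset.sum_apply, mul_assoc]
      have h2 : a j ^ K • v = ∑ s, (v s * a j ^ (K - k j s)) • a j ^ k j s • (Pi.single s 1 : (Σ j, n j) → R) := by
        funext t
        simp only [Finset.sum_apply, Pi.smul_apply, smul_eq_mul, Pi.single_apply, mul_ite, mul_one, mul_zero,
          Finset.sum_ite_eq, Finset.mem_univ, if_true]
        rw [mul_assoc, ← pow_add, Nat.sub_add_cancel (hle t), mul_comm]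
      simp only [W, smul_sub, Finset.sum_sub_distrib, h1, h2]
    have hW0 : ∀ s, f (W ⟨j, .inr s⟩) = 0 := fun s => by
      simp only [W, map_sub, map_smul, hι]
      rw [← hA, sub_eq_zero]
      simp [f, X]
    have hc : ∑ l, c l • x j l = 0 := by
      rw [← hι]
      have := congrArg f hdec
      rw [map_sub, map_smul, hv, smul_zero, zero_sub, map_sum] at this
      simpa [hW0] using this
    obtain ⟨k', hk'⟩ := (hP j).ker c hc
    refine ⟨k' + K, ?_⟩
    show a j ^ (k' + K) • v ∈ _
    rw [pow_add, mul_smul, show a j ^ K • v = (a j ^ K • v - ι j c) + ι j c by abel, smul_add, hdec, ← map_smul]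
    refine add_mem (smul_mem _ _ (sum_mem fun s _ => smul_mem _ _ (subset_span ⟨⟨j, .inr s⟩, rfl⟩))) ?_
    have : (span R (Set.range (rel j))).map (ι j) ≤ span R (Set.range W) := by
      rw [map_span, span_le]
      rintro _ ⟨_, ⟨q, rfl⟩, rfl⟩
      exact subset_span ⟨⟨j, .inl q⟩, rfl⟩
    exact this (mem_map_of_mem hk')
  · rintro _ ⟨⟨j, q | s⟩, rfl⟩
    · show f (ι j (rel j q)) = 0
      rw [hι]
      exact (hP j).rel_zero q
    · show f (a j ^ k j s • Pi.single s 1 - ι j (A j s)) = 0
      rw [map_sub, map_smul, hι, ← hA, sub_eq_zero]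
      simp [f, X]

/-- A product of modules with presentations of one shape is finitely presented over the product ring. -/
theorem pi_finitePresentation {ι : Type w} (R : ι → Type u) [∀ i, CommRing (R i)] (M : ι → Type v)
    [∀ i, AddCommGroup (M i)] [∀ i, Module (R i) (M i)] {s t : Type} [Fintype s] [Fintype t]
    (h : ∀ i, ∃ (f : (s → R i) →ₗ[R i] M i) (W : t → s → R i), IsPres f W) :
    Module.FinitePresentation (∀ i, R i) (∀ i, M i) := by
  classical
  choose f W hs hk using h
  let F : (s → ∀ i, R i) →ₗ[∀ i, R i] ∀ i, M i :=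
    { toFun := fun c i => f i fun l => c l i
      map_add' := fun a b => funext fun i => map_add (f i) (fun l => a l i) (fun l => b l i)
      map_smul' := fun r a => funext fun i => map_smul (f i) (r i) (fun l => a l i) }
  refine Module.finitePresentation_of_surjective F (fun y => ?_) ⟨Finset.univ.image fun q l i => W i q l, ?_⟩
  · choose c hc using fun i => hs i (y i)
    exact ⟨fun l i => c i l, funext hc⟩
  · rw [Finset.coe_image, Finset.coe_univ, Set.image_univ]
    refine le_antisymm (span_le.2 ?_) fun v hv => ?_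
    · rintro _ ⟨q, rfl⟩
      refine funext fun i => ?_
      exact ((hk i).ge (subset_span ⟨q, rfl⟩) : f i (W i q) = 0)
    · have hv' : ∀ i, ∃ d : t → R i, ∑ q, d q • W i q = fun l => v l i := fun i =>
        (mem_span_range_iff_exists_fun (R i)).1 ((hk i).le (congrFun (hv : F v = 0) i))
      choose d hd using hv'
      refine (mem_span_range_iff_exists_fun _).2 ⟨fun q i => d i q, funext fun l => funext fun i => ?_⟩
      simpa [Finset.sum_apply] using congrFun (hd i) l

/-- Presentations base change. -/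
theorem presentation_baseChange {B R' M N : Type u} [CommRing B] [CommRing R'] [Algebra B R']
    [AddCommGroup M] [Module B M] [AddCommGroup N] [Module R' N] [Module B N] [IsScalarTower B R' N]
    (l : M →ₗ[B] N) (hl : IsBaseChange R' l) {n p : Type} [Fintype n] [Fintype p]
    (g : n → M) (rel : p → n → B) (hg : span B (Set.range g) = ⊤)
    (hker : LinearMap.ker (Fintype.linearCombination B g) = span B (Set.range rel)) :
    span R' (Set.range (l ∘ g)) = ⊤ ∧ (∀ q, ∑ i, algebraMap B R' (rel q i) • l (g i) = 0) ∧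
      ∀ c : n → R', ∑ i, c i • l (g i) = 0 →
        c ∈ span R' (Set.range fun q => fun i => algebraMap B R' (rel q i)) := by
  classical
  let K := span R' (Set.range fun q => fun i => algebraMap B R' (rel q i))
  have hgs : Function.Surjective (Fintype.linearCombination B g) := by
    rw [← LinearMap.range_eq_top, Fintype.range_linearCombination, hg]
  have hzero : ∀ q, ∑ i, algebraMap B R' (rel q i) • l (g i) = 0 := fun q => by
    have h0 : Fintype.linearCombination B g (rel q) = 0 := hker.ge (subset_span ⟨q, rfl⟩)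
    simp only [algebraMap_smul, ← map_smul, ← map_sum]
    rw [Fintype.linearCombination_apply] at h0
    rw [h0, map_zero]
  let ψ : (n → B) →ₗ[B] (n → R') ⧸ K :=
    (K.mkQ.restrictScalars B).comp (LinearMap.pi fun i => (Algebra.linearMap B R').comp (LinearMap.proj i))
  have hψ : LinearMap.ker (Fintype.linearCombination B g) ≤ LinearMap.ker ψ := by
    rw [hker, span_le]
    rintro _ ⟨q, rfl⟩
    exact (Quotient.mk_eq_zero K).2 (subset_span ⟨q, rfl⟩)
  let e := (Fintype.linearCombination B g).quotKerEquivOfSurjective hgs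
  let θ : M →ₗ[B] (n → R') ⧸ K := ((LinearMap.ker (Fintype.linearCombination B g)).liftQ ψ hψ).comp e.symm.toLinearMap
  have hθ : ∀ i, θ (g i) = K.mkQ (Pi.single i 1) := by
    intro i
    have he : e.symm (g i) = Submodule.Quotient.mk (Pi.single i 1) := by
      rw [LinearEquiv.symm_apply_eq]
      show g i = Fintype.linearCombination B g (Pi.single i 1)
      rw [Fintype.linearCombination_apply_single, one_smul]
    show (LinearMap.ker (Fintype.linearCombination B g)).liftQ ψ hψ (e.symm (g i)) = _
    rw [he, liftQ_apply]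
    show K.mkQ _ = K.mkQ _
    congr 1
    funext i'
    simp [Pi.single_apply]
  refine ⟨?_, hzero, fun c hc => ?_⟩
  · refine top_unique fun y hy => ?_
    clear hy
    induction y using hl.inductionOn with
    | zero => exact zero_mem _
    | tmul m =>
      obtain ⟨c, rfl⟩ := hgs m
      rw [Fintype.linearCombination_apply, map_sum]
      refine sum_mem fun i _ => ?_
      rw [map_smul, ← algebraMap_smul R']
      exact smul_mem _ _ (subset_span ⟨i, rfl⟩)
    | smul s n hn => exact smul_mem _ _ hn
    | add a b ha hb => exact add_mem ha hb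
  · have h1 := congrArg (hl.lift θ) hc
    simp only [map_sum, map_smul, hl.lift_eq, hθ, map_zero] at h1
    simp only [← map_smul, ← map_sum] at h1
    rw [mkQ_apply, Quotient.mk_eq_zero] at h1
    rwa [show ∑ i, c i • (Pi.single i 1 : n → R') = c from (pi_eq_sum_univ' c).symm] at h1

/-- A presentation of the localisation gives a presentation up to powers. -/
theorem presAway_of {R R' : Type u} {M M' : Type u} [CommRing R] [CommRing R'] [AddCommGroup M] [Module R M]
    [AddCommGroup M'] [Module R' M'] (a : R) (φ : R →+* R') (ρ : M →+ M')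
    (hρ : ∀ (r : R) (y : M), ρ (r • y) = φ r • ρ y) (hu : IsUnit (φ a))
    (hRs : ∀ c' : R', ∃ (k : ℕ) (c : R), φ c = φ (a ^ k) * c') (hRi : ∀ c : R, φ c = 0 → ∃ k : ℕ, a ^ k * c = 0)
    (hMs : ∀ y' : M', ∃ (k : ℕ) (y : M), ρ y = φ (a ^ k) • y') (hMi : ∀ y : M, ρ y = 0 → ∃ k : ℕ, a ^ k • y = 0)
    {n p : Type} [Fintype n] [Fintype p] (g : n → M') (rel' : p → n → R')
    (hg : span R' (Set.range g) = ⊤) (h0 : ∀ q, ∑ i, rel' q i • g i = 0)
    (hker : ∀ c : n → R', ∑ i, c i • g i = 0 → c ∈ span R' (Set.range rel')) :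
    ∃ (x : n → M) (rel : p → n → R), PresAway a x rel := by
  classical
  choose kg x hx using fun i => hMs (g i)
  have hupow : ∀ k, IsUnit (φ (a ^ k)) := fun k => by rw [map_pow]; exact hu.pow k
  choose u hu' using fun i => hupow (kg i)
  have hgx : ∀ i, g i = (↑(u i)⁻¹ : R') • ρ (x i) := fun i => by
    rw [hx, ← hu', smul_smul, Units.inv_mul, one_smul]
  have hrel : ∀ q, ∃ (c : n → R) (K : ℕ), (∀ i, φ (c i) = φ (a ^ K) * (rel' q i * ↑(u i)⁻¹)) ∧
      ∑ i, c i • x i = 0 := by
    intro q
    choose kc c hc using fun i => hRs (rel' q i * ↑(u i)⁻¹)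
    let K := ∑ i, kc i
    have hle : ∀ i, kc i ≤ K := fun i => Finset.single_le_sum (fun i _ => Nat.zero_le (kc i)) (Finset.mem_univ i)
    let c' := fun i => a ^ (K - kc i) * c i
    have hc' : ∀ i, φ (c' i) = φ (a ^ K) * (rel' q i * ↑(u i)⁻¹) := fun i => by
      rw [map_mul, hc, ← mul_assoc, ← map_mul, ← pow_add, Nat.sub_add_cancel (hle i)]
    have hz : ρ (∑ i, c' i • x i) = 0 := by
      simp only [map_sum, hρ, hc']
      have : ∑ i, (φ (a ^ K) * (rel' q i * ↑(u i)⁻¹)) • ρ (x i) = φ (a ^ K) • ∑ i, rel' q i • g i := by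
        rw [Finset.smul_sum]
        refine Finset.sum_congr rfl fun i _ => ?_
        rw [hgx, smul_smul, smul_smul, mul_assoc]
      rw [this, h0, smul_zero]
    obtain ⟨k, hk⟩ := hMi _ hz
    refine ⟨fun i => a ^ k * c' i, k + K, fun i => ?_, ?_⟩
    · rw [map_mul, hc', ← mul_assoc, ← map_mul, ← pow_add]
    · simp only [mul_smul, ← Finset.smul_sum]; exact hk
  choose rel K hrelφ hrel0 using hrel
  have hclear : ∀ v ∈ span R' (Set.range fun q i => rel' q i * ↑(u i)⁻¹), ∃ (k : ℕ), ∃ e ∈ span R (Set.range rel),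
      ∀ i, φ (e i) = φ (a ^ k) * v i := by
    intro v hv
    induction hv using span_induction with
    | mem v hv =>
      obtain ⟨q, rfl⟩ := hv
      exact ⟨K q, rel q, subset_span ⟨q, rfl⟩, hrelφ q⟩
    | zero => exact ⟨0, 0, zero_mem _, fun i => by simp⟩
    | add v w _ _ hv hw =>
      obtain ⟨k, e, he, hek⟩ := hv
      obtain ⟨k', e', he', hek'⟩ := hw
      refine ⟨k + k', a ^ k' • e + a ^ k • e', add_mem (smul_mem _ _ he) (smul_mem _ _ he'), fun i => ?_⟩
      simp only [Pi.add_apply, Pi.smul_apply, smul_eq_mul, map_add, map_mul, hek, hek', pow_add]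
      ring
    | smul d v _ hv =>
      obtain ⟨k, e, he, hek⟩ := hv
      obtain ⟨k', d', hd'⟩ := hRs d
      refine ⟨k' + k, d' • e, smul_mem _ _ he, fun i => ?_⟩
      simp only [Pi.smul_apply, smul_eq_mul, map_mul, hd', hek, pow_add]
      ring
  refine ⟨x, rel, hrel0, fun y => ?_, fun c hc => ?_⟩
  · have hy : ρ y ∈ span R' (Set.range fun i => ρ (x i)) := by
      have : ρ y ∈ span R' (Set.range g) := hg ▸ mem_top
      refine span_le.2 ?_ this
      rintro _ ⟨i, rfl⟩
      rw [hgx]
      exact smul_mem _ _ (subset_span ⟨i, rfl⟩)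
    have hcl : ∀ z ∈ span R' (Set.range fun i => ρ (x i)), ∃ (k : ℕ), ∃ w ∈ span R (Set.range x),
        ρ w = φ (a ^ k) • z := by
      intro z hz
      induction hz using span_induction with
      | mem z hz => obtain ⟨i, rfl⟩ := hz; exact ⟨0, x i, subset_span ⟨i, rfl⟩, by simp⟩
      | zero => exact ⟨0, 0, zero_mem _, by simp⟩
      | add v w _ _ hv hw =>
        obtain ⟨k, e, he, hek⟩ := hv
        obtain ⟨k', e', he', hek'⟩ := hw
        refine ⟨k + k', a ^ k' • e + a ^ k • e', add_mem (smul_mem _ _ he) (smul_mem _ _ he'), ?_⟩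
        rw [map_add, hρ, hρ, hek, hek', smul_smul, smul_smul, ← map_mul, ← map_mul, ← pow_add, ← pow_add,
          add_comm k', smul_add]
      | smul d v _ hv =>
        obtain ⟨k, e, he, hek⟩ := hv
        obtain ⟨k', d', hd'⟩ := hRs d
        refine ⟨k' + k, d' • e, smul_mem _ _ he, ?_⟩
        rw [hρ, hd', hek, smul_smul, smul_smul, pow_add, map_mul]
        ring_nf
    obtain ⟨k, w, hw, hwy⟩ := hcl _ hy
    obtain ⟨k', hk'⟩ := hMi (a ^ k • y - w) (by rw [map_sub, hρ, hwy, sub_self])
    refine ⟨k' + k, ?_⟩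
    rw [smul_sub, smul_smul, ← pow_add, sub_eq_zero] at hk'
    rw [hk']
    exact smul_mem _ _ hw
  · have h1 : ∑ i, (φ (c i) * ↑(u i)) • g i = 0 := by
      have := congrArg ρ hc
      rw [map_sum, map_zero] at this
      rw [← this]
      refine Finset.sum_congr rfl fun i _ => ?_
      rw [hρ, hgx, smul_smul, mul_assoc, Units.mul_inv, mul_one]
    have h2 : (fun i => φ (c i)) ∈ span R' (Set.range fun q i => rel' q i * ↑(u i)⁻¹) := by
      let m : (n → R') →ₗ[R'] (n → R') := LinearMap.pi fun i => (↑(u i)⁻¹ : R') • LinearMap.proj i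
      have := mem_map_of_mem (f := m) (hker _ h1)
      rw [map_span, ← Set.range_comp] at this
      have e1 : m (fun i => φ (c i) * ↑(u i)) = fun i => φ (c i) := by
        funext i; simp [m, mul_comm _ (↑(u i) : R'), ← mul_assoc]
      have e2 : ⇑m ∘ rel' = fun q i => rel' q i * ↑(u i)⁻¹ := by
        funext q i; simp [m, mul_comm]
      rw [← e1, ← e2]
      exact this
    obtain ⟨k, e, he, hek⟩ := hclear _ h2
    choose kk hkk using fun i => hRi (a ^ k * c i - e i) (by rw [map_sub, map_mul, hek, sub_self])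
    refine ⟨(∑ i, kk i) + k, ?_⟩
    have : a ^ ((∑ i, kk i) + k) • c = a ^ (∑ i, kk i) • e := by
      funext i
      obtain ⟨t, ht⟩ : ∃ t, ∑ j, kk j = t + kk i :=
        ⟨_, (Nat.sub_add_cancel (Finset.single_le_sum (fun j _ => Nat.zero_le (kk j)) (Finset.mem_univ i))).symm⟩
      simp only [Pi.smul_apply, smul_eq_mul, ht, pow_add]
      linear_combination a ^ t * hkk i
    rw [this]
    exact smul_mem _ _ he

end Groth.Agent.H9Prod
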