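import Groth.Agent.H9Prod.Alg
import Groth.Agent.QCoh.PullbackBC
import Groth.Agent.QCoh.FT
import Groth.Agent.QCoh.Localize
import Groth.Agent.QCoh.Support

/-! Products of sections of a finitely presented module over affine schemes. -/

set_option autoImplicit false
set_option linter.style.haveILetI false
set_option backward.isDefEq.respectTransparency false
set_option backward.isDefEq.respectTransparency.types false

universe u

open CategoryTheory AlgebraicGeometry TopologicalSpace Opposite Submodule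

namespace Groth.Agent.H9Prod

theorem exists_affine_cover (X : Scheme.{u}) [CompactSpace X] :
    ∃ (r : ℕ) (U : Fin r → X.Opens), (∀ j, IsAffineOpen (U j)) ∧ ∀ x : X, ∃ j, x ∈ U j := by
  obtain ⟨t, ht⟩ := isCompact_univ.elim_finite_subcover (fun U : X.affineOpens => (U.1 : Set X)) (fun U => U.1.2)
    fun x _ => by
      obtain ⟨_, ⟨U, hU, rfl⟩, hxU, -⟩ :=
        X.isBasis_affineOpens.exists_subset_of_mem_open (Set.mem_univ x) isOpen_univ
      exact Set.mem_iUnion.2 ⟨⟨U, hU⟩, hxU⟩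
  refine ⟨t.card, fun j => (t.equivFin.symm j).1.1, fun j => (t.equivFin.symm j).1.2, fun x => ?_⟩
  obtain ⟨U, hU, hx⟩ := Set.mem_iUnion₂.1 (ht (Set.mem_univ x))
  refine ⟨t.equivFin ⟨U, hU⟩, ?_⟩
  show x ∈ (t.equivFin.symm (t.equivFin ⟨U, hU⟩)).1.1
  rw [Equiv.symm_apply_apply]
  exact hx

/-- An open cover of an affine scheme contains one basic open for each member that still covers. -/
theorem exists_basic_cover (A : CommRingCat.{u}) {r : Type} [Fintype r] (V : r → (Spec A).Opens)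
    (hV : ∀ x, ∃ j, x ∈ V j) :
    ∃ a : r → Γ(Spec A, ⊤), Ideal.span (Set.range a) = ⊤ ∧ ∀ j, (Spec A).basicOpen (a j) ≤ V j := by
  classical
  let I : r → Ideal A := fun j => PrimeSpectrum.vanishingIdeal ((V j).carrierᶜ : Set (PrimeSpectrum A))
  have hZ : ∀ j, PrimeSpectrum.zeroLocus (I j : Set A) = ((V j).carrierᶜ : Set (PrimeSpectrum A)) := fun j => by
    rw [PrimeSpectrum.zeroLocus_vanishingIdeal_eq_closure]
    exact (V j).2.isClosed_compl.closure_eq
  have htop : ⨆ j, I j = ⊤ := by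
    by_contra h
    obtain ⟨P, hP, hle⟩ := Ideal.exists_le_maximal _ h
    obtain ⟨j, hj⟩ := hV ⟨P, hP.isPrime⟩
    have : (⟨P, hP.isPrime⟩ : PrimeSpectrum A) ∈ PrimeSpectrum.zeroLocus (I j : Set A) :=
      (PrimeSpectrum.mem_zeroLocus _ _).2 ((le_iSup I j).trans hle)
    rw [hZ] at this
    exact this hj
  obtain ⟨c, hc, hsum⟩ := (Submodule.mem_iSup_iff_exists_finsupp I (1 : A)).1 (htop ▸ Submodule.mem_top)
  refine ⟨fun j => (Scheme.ΓSpecIso A).inv (c j), ?_, fun j x hx => ?_⟩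
  · rw [Ideal.eq_top_iff_one, ← map_one (Scheme.ΓSpecIso A).inv.hom, ← hsum, Finsupp.sum, map_sum]
    exact Ideal.sum_mem _ fun j _ => Ideal.subset_span ⟨j, rfl⟩
  · rw [basicOpen_eq_of_affine] at hx
    by_contra hxj
    have : x ∈ PrimeSpectrum.zeroLocus (I j : Set A) := by rw [hZ]; exact hxj
    exact hx ((PrimeSpectrum.mem_zeroLocus _ _).1 this (hc j))

/-- One chart. -/
theorem presAway_chart {X Y : Scheme.{u}} (φ : Y ⟶ X) (F : X.Modules) (hF : CohB1.IsFP F)
    {U : X.Opens} (hU : IsAffineOpen U) {V : Y.Opens} (hV : IsAffineOpen V) (a : Γ(Y, V))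
    (hle : Y.basicOpen a ≤ φ ⁻¹ᵁ U) {n p : Type} [Fintype n] [Fintype p] (g : n → Γ(F, U))
    (rel : p → n → Γ(X, U)) (hg : span Γ(X, U) (Set.range g) = ⊤)
    (hker : LinearMap.ker (Fintype.linearCombination Γ(X, U) g) = span Γ(X, U) (Set.range rel)) :
    ∃ (x : n → Γ((Scheme.Modules.pullback φ).obj F, V)) (rel : p → n → Γ(Y, V)), PresAway a x rel := by
  let N := (Scheme.Modules.pullback φ).obj F
  have hFq := QCoh.isQCoh_of_isFP hF
  have hN : Coh.IsQCoh N := QCoh.isQCoh_pullback φ hFq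
  let W := Y.basicOpen a
  letI : Algebra Γ(X, U) Γ(Y, W) := (φ.appLE U W hle).hom.toAlgebra
  letI : Module Γ(X, U) Γ(N, W) := Module.compHom _ (φ.appLE U W hle).hom
  haveI : IsScalarTower Γ(X, U) Γ(Y, W) Γ(N, W) := IsScalarTower.of_algebraMap_smul fun _ _ => rfl
  let l : Γ(F, U) →ₗ[Γ(X, U)] Γ(N, W) :=
    { toFun := QCoh.pullSec φ F hle
      map_add' := QCoh.pullSec_add φ F hle
      map_smul' := QCoh.pullSec_smul φ F hle }
  have hbc : IsBaseChange Γ(Y, W) l :=
    QCoh.isBaseChange_pullback hU φ (hV.basicOpen a) hFq hle (fun _ => rfl) l fun _ => rfl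
  obtain ⟨h1, h2, h3⟩ := presentation_baseChange l hbc g rel hg hker
  haveI := hV.isLocalization_basicOpen a
  let ψ : Γ(Y, V) →+* Γ(Y, W) := (Y.presheaf.map (homOfLE (Y.basicOpen_le a)).op).hom
  have hψ : ψ = algebraMap Γ(Y, V) Γ(Y, W) := rfl
  refine presAway_of a ψ (N.presheaf.map (homOfLE (Y.basicOpen_le a)).op).hom
    (fun r y => QCoh.map_smul' (M := N) _ r y) ?_ (fun c' => ?_) (fun c hc => ?_) (fun y' => ?_) (fun y hy => ?_)
    (fun i => l (g i)) (fun q i => algebraMap Γ(X, U) Γ(Y, W) (rel q i)) h1 h2 h3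
  · exact IsLocalization.Away.algebraMap_isUnit a
  · obtain ⟨k, c, hc⟩ := IsLocalization.Away.surj a c'
    exact ⟨k, c, by rw [hψ, map_pow, mul_comm]; exact hc.symm⟩
  · obtain ⟨⟨_, k, rfl⟩, hk⟩ := (IsLocalization.map_eq_zero_iff (Submonoid.powers a) Γ(Y, W) c).1 hc
    exact ⟨k, hk⟩
  · obtain ⟨k, t, ht⟩ := QCoh.exists_pow_smul_eq_map hN hV a y'
    exact ⟨k, t, ht.trans (by rw [map_pow])⟩
  · exact QCoh.exists_pow_smul_eq_zero hN hV a y hy

theorem main (X : Scheme.{u}) [CompactSpace X] {ι : Type u} (A : ι → CommRingCat.{u})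
    (f : ∀ i, Spec (A i) ⟶ X) (F : X.Modules) (hF : CohB1.IsFP F) :
    Module.FinitePresentation (∀ i, Γ(Spec (A i), ⊤))
      (∀ i, Γ((Scheme.Modules.pullback (f i)).obj F, ⊤)) := by
  classical
  obtain ⟨r, U, hU, hcov⟩ := exists_affine_cover X
  have hpres : ∀ j, ∃ (n m : ℕ) (g : Fin n → Γ(F, U j)) (rel : Fin m → Fin n → Γ(X, U j)),
      span Γ(X, U j) (Set.range g) = ⊤ ∧
      LinearMap.ker (Fintype.linearCombination Γ(X, U j) g) = span Γ(X, U j) (Set.range rel) := by
    intro j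
    haveI := QCoh.finitePresentation_of_isFP hF (hU j)
    obtain ⟨n, m, f₀, g₀, hf₀, hex⟩ := Module.FinitePresentation.exists_fin' Γ(X, U j) Γ(F, U j)
    have hlc : Fintype.linearCombination Γ(X, U j) (fun l => f₀ (Pi.single l 1)) = f₀ := by
      refine LinearMap.pi_ext' fun l => LinearMap.ext_ring ?_
      simp [Fintype.linearCombination_apply_single]
    refine ⟨n, m, fun l => f₀ (Pi.single l 1), fun q => g₀ (Pi.single q 1), ?_, ?_⟩
    · rw [← Fintype.range_linearCombination, hlc, LinearMap.range_eq_top.2 hf₀]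
    · rw [hlc, LinearMap.exact_iff.1 hex, ← Fintype.range_linearCombination]
      refine congrArg LinearMap.range (LinearMap.pi_ext' fun l => LinearMap.ext_ring ?_)
      simp [Fintype.linearCombination_apply_single]
  choose n m g rel hg hker using hpres
  refine pi_finitePresentation (fun i => Γ(Spec (A i), ⊤))
    (fun i => Γ((Scheme.Modules.pullback (f i)).obj F, ⊤))
    (s := Σ j, Fin (n j)) (t := Σ j, (Fin (m j) ⊕ (Σ j, Fin (n j)))) fun i => ?_
  obtain ⟨a, ha, hle⟩ := exists_basic_cover (A i) (fun j => f i ⁻¹ᵁ U j) fun x => hcov (f i x)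
  exact exists_presentation (fun j => Fin (n j)) (fun j => Fin (m j)) a ha fun j =>
    presAway_chart (f i) F hF (hU j) (isAffineOpen_top _) (a j) (hle j) (g j) (rel j) (hg j) (hker j)

end Groth.Agent.H9Prod
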